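import Groth.Agent.EtFound.AbRecollement
import Groth.Agent.EtFound.ExtZeroExact
import Groth.Agent.EtFound.PullStalk
import Groth.Agent.EtFound.JContGen
import Mathlib.CategoryTheory.MorphismProperty.OverAdjunction
import Mathlib.CategoryTheory.Preadditive.Injective.Preserves

/-! inverse image along an etale morphism, in sections -/

universe u

open CategoryTheory CategoryTheory.Limits AlgebraicGeometry Opposite

namespace Groth.Agent.DualLib

set_option backward.isDefEq.respectTransparency false
set_option backward.isDefEq.respectTransparency.types false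

variable {U X : Scheme.{u}} (j : U ⟶ X) [AlgebraicGeometry.Etale j] [EtShriek.JCont j]

/-- `compEtale j ⊣ bc j` -/
noncomputable abbrev compBcAdj : EtShriek.compEtale j ⊣ EtCoh.bc j :=
  MorphismProperty.Over.mapPullbackAdj EtCoh.etaleMP ⊤ j (inferInstanceAs (AlgebraicGeometry.Etale j)) trivial

/-- `j^{-1} ⊣ j_*` with `j^{-1}` the restriction -/
noncomputable abbrev restrPushAdj : EtShriek.restrAlong j ⊣ EtCoh.push j :=
  (compBcAdj j).sheafPushforwardContinuous (E := AddCommGrpCat.{u + 1}) U.smallEtaleTopology X.smallEtaleTopology

/-- restriction is inverse image -/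
noncomputable def restrPullIso : EtShriek.restrAlong j ≅ EtCoh.pull j :=
  Adjunction.leftAdjointUniq (restrPushAdj j) (EtCoh.pullPushAdj j)

theorem restrPushAdj_unit_app (F : EtCoh.Ab X) (V : X.Etale) :
    ((restrPushAdj j).unit.app F).hom.app (op V) = F.obj.map ((compBcAdj j).counit.app V).op := by
  rfl

theorem unit_eq (F : EtCoh.Ab X) :
    (EtCoh.pullPushAdj j).unit.app F = (restrPushAdj j).unit.app F ≫ (EtCoh.push j).map ((restrPullIso j).hom.app F) :=
  (Adjunction.unit_leftAdjointUniq_hom_app _ _ F).symm

theorem unit_app_apply (F : EtCoh.Ab X) (V : X.Etale) (s : EtCoh.sect F V) :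
    ((EtCoh.pullPushAdj j).unit.app F).hom.app (op V) s =
      ((restrPullIso j).hom.app F).hom.app (op ((EtCoh.bc j).obj V)) (F.obj.map ((compBcAdj j).counit.app V).op s) := by
  rw [unit_eq]
  rfl

theorem pull_preservesInjectiveObjects : (EtCoh.pull j).PreservesInjectiveObjects := by
  have := EtFound.extZero_preservesFiniteLimits j
  have : (EtShriek.extZero j).PreservesMonomorphisms := inferInstance
  have : (EtShriek.restrAlong j).PreservesInjectiveObjects :=
    Functor.preservesInjectiveObjects_of_adjunction_of_preservesMonomorphisms (EtShriek.extZeroAdj j)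
  exact ⟨fun {I} _ => Injective.of_iso ((restrPullIso j).app I) inferInstance⟩

/-- the counit is an inclusion -/
theorem mono_counit [Mono j] (V : X.Etale) : Mono ((compBcAdj j).counit.app V) := by
  have : Mono ((compBcAdj j).counit.app V).left := by
    show Mono (pullback.fst V.hom j)
    infer_instance
  exact ⟨fun g g' e => MorphismProperty.Over.Hom.ext ((cancel_mono ((compBcAdj j).counit.app V).left).1
    (congrArg (fun k => k.left) e))⟩

end Groth.Agent.DualLib
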