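import Groth.Prelude.Def_DCoh2
import Groth.Agent.EtFound.AbRecollement
import Groth.Agent.EtFound.PullStalk
import Groth.Agent.DualLib.Pull
import Mathlib.CategoryTheory.Localization.Adjunction
import Mathlib.Algebra.Homology.DerivedCategory.ExactFunctor
import Mathlib.Algebra.Homology.HomologySequence

/-! `i_*` on derived categories for a closed immersion -/

universe u

open CategoryTheory CategoryTheory.Limits AlgebraicGeometry Opposite

attribute [local instance] HasDerivedCategory.standard

namespace Groth.Agent.DualLib.ClosedDerived

set_option backward.isDefEq.respectTransparency false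
set_option backward.isDefEq.respectTransparency.types false

section General

variable {C₁ : Type*} [Category C₁] [Abelian C₁] {C₂ : Type*} [Category C₂] [Abelian C₂]
  {G : C₁ ⥤ C₂} {F : C₂ ⥤ C₁} [G.Additive] [F.Additive] (adj : G ⊣ F)
  {ι : Type*} (c : ComplexShape ι)

/-- an adjunction of additive functors on complexes -/
noncomputable def mapCxAdj : G.mapHomologicalComplex c ⊣ F.mapHomologicalComplex c :=
  Adjunction.mkOfUnitCounit
    { unit :=
        { app := fun K => { f := fun n => adj.unit.app (K.X n)
                            comm' := fun a b _ => (adj.unit.naturality (K.d a b)).symm }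
          naturality := fun _ _ φ => HomologicalComplex.hom_ext _ _ fun n => adj.unit.naturality (φ.f n) }
      counit :=
        { app := fun K => { f := fun n => adj.counit.app (K.X n)
                            comm' := fun a b _ => (adj.counit.naturality (K.d a b)).symm }
          naturality := fun _ _ φ => HomologicalComplex.hom_ext _ _ fun n => adj.counit.naturality (φ.f n) }
      left_triangle := by ext K n; simp; exact adj.left_triangle_components (K.X n)
      right_triangle := by ext K n; simp; exact adj.right_triangle_components (K.X n) }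

variable [PreservesFiniteLimits G] [PreservesFiniteColimits G] [PreservesFiniteLimits F] [PreservesFiniteColimits F]

/-- derived adjunction of exact functors -/
noncomputable def derivedAdj : G.mapDerivedCategory ⊣ F.mapDerivedCategory :=
  letI : CatCommSq (G.mapHomologicalComplex (ComplexShape.up ℤ)) DerivedCategory.Q DerivedCategory.Q G.mapDerivedCategory :=
    ⟨G.mapDerivedCategoryFactors.symm⟩
  letI : CatCommSq (F.mapHomologicalComplex (ComplexShape.up ℤ)) DerivedCategory.Q DerivedCategory.Q F.mapDerivedCategory :=
    ⟨F.mapDerivedCategoryFactors.symm⟩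
  (mapCxAdj adj _).localization DerivedCategory.Q (HomologicalComplex.quasiIso C₁ _)
    DerivedCategory.Q (HomologicalComplex.quasiIso C₂ _) _ _

theorem isIso_derivedAdj_unit (K : CochainComplex C₁ ℤ) (h : QuasiIso ((mapCxAdj adj _).unit.app K)) :
    IsIso ((derivedAdj adj).unit.app (DerivedCategory.Q.obj K)) := by
  rw [derivedAdj, Adjunction.localization_unit_app]
  have : IsIso (DerivedCategory.Q.map ((mapCxAdj adj (ComplexShape.up ℤ)).unit.app K)) := inferInstance
  infer_instance

theorem isIso_derivedAdj_counit [∀ X, IsIso (adj.counit.app X)] : IsIso (derivedAdj adj).counit := by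
  have : ∀ K, IsIso ((derivedAdj adj).counit.app (DerivedCategory.Q.obj K)) := fun K => by
    rw [derivedAdj, Adjunction.localization_counit_app]
    have : ∀ n, IsIso (((mapCxAdj adj (ComplexShape.up ℤ)).counit.app K).f n) := fun n => inferInstanceAs (IsIso (adj.counit.app _))
    have : IsIso ((mapCxAdj adj (ComplexShape.up ℤ)).counit.app K) := HomologicalComplex.Hom.isIso_of_components _
    infer_instance
  have : ∀ M, IsIso ((derivedAdj adj).counit.app M) := fun M =>
    (NatTrans.isIso_app_iff_of_iso (derivedAdj adj).counit (DerivedCategory.Q.objObjPreimageIso M)).1 (this _)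
  exact NatIso.isIso_of_isIso_app _

end General

variable {Z X U : Scheme.{u}} (i : Z ⟶ X) [IsClosedImmersion i] (j : U ⟶ X) [IsOpenImmersion j]
  [AlgebraicGeometry.Etale j] [EtShriek.JCont j]

theorem quasiIso_unit (hU : Set.range j.base = (Set.range i.base)ᶜ) (C : CochainComplex (EtCoh.Ab X) ℤ)
    (h : ∀ n, IsZero ((EtCoh.pull j).obj (C.homology n))) :
    haveI : (EtCoh.pull i).Additive := (EtCoh.pullPushAdj i).left_adjoint_additive
    QuasiIso ((mapCxAdj (EtCoh.pullPushAdj i) (ComplexShape.up ℤ)).unit.app C) := by
  haveI : (EtCoh.pull i).Additive := (EtCoh.pullPushAdj i).left_adjoint_additive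
  have : (EtCoh.pull j).Additive := (EtCoh.pullPushAdj j).left_adjoint_additive
  have : (EtShriek.restrAlong j).Additive := Functor.additive_of_iso (restrPullIso j).symm (F := EtCoh.pull j)
  have : (EtShriek.extZero j).Additive := (EtShriek.extZeroAdj j).left_adjoint_additive
  have := EtFound.extZero_preservesFiniteLimits j
  have : PreservesColimitsOfSize.{0, 0} (EtShriek.extZero j) := (EtShriek.extZeroAdj j).leftAdjoint_preservesColimits
  have : PreservesFiniteColimits (EtShriek.extZero j) := PreservesColimitsOfSize.preservesFiniteColimits.{0, 0} _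
  have : PreservesColimitsOfSize.{0, 0} (EtCoh.pull j) := (EtCoh.pullPushAdj j).leftAdjoint_preservesColimits
  have : PreservesFiniteColimits (EtCoh.pull j) := PreservesColimitsOfSize.preservesFiniteColimits.{0, 0} _
  have : PreservesFiniteColimits (EtShriek.restrAlong j) := preservesFiniteColimits_of_natIso (restrPullIso j).symm
  let Φ := EtShriek.restrAlong j ⋙ EtShriek.extZero j
  let S : ShortComplex (CochainComplex (EtCoh.Ab X) ℤ) := ShortComplex.mk
    (X₁ := (Φ.mapHomologicalComplex _).obj C)
    { f := fun n => (EtShriek.extZeroAdj j).counit.app (C.X n)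
      comm' := fun a b _ => ((EtShriek.extZeroAdj j).counit.naturality (C.d a b)).symm }
    ((mapCxAdj (EtCoh.pullPushAdj i) (ComplexShape.up ℤ)).unit.app C)
    (HomologicalComplex.hom_ext _ _ fun n => (EtFound.recollement_shortExact i j hU (C.X n)).1)
  have hS : S.ShortExact := HomologicalComplex.shortExact_of_degreewise_shortExact _ fun n =>
    (EtFound.recollement_shortExact i j hU (C.X n)).2
  have hz : ∀ n, IsZero (S.X₁.homology n) := fun n => by
    refine IsZero.of_iso ?_ ((C.sc n).mapHomologyIso Φ)
    exact (EtShriek.extZero j).map_isZero ((h n).of_iso ((restrPullIso j).app _))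
  refine ⟨fun n => (quasiIsoAt_iff_isIso_homologyMap _ _).2 ?_⟩
  have : Mono (HomologicalComplex.homologyMap S.g n) := (hS.homology_exact₂ n).mono_g ((hz n).eq_of_src _ _)
  have : Epi (HomologicalComplex.homologyMap S.g n) := (hS.homology_exact₃ n (n + 1) rfl).epi_f ((hz _).eq_of_tgt _ _)
  exact isIso_of_mono_of_epi (HomologicalComplex.homologyMap S.g n)

omit [EtShriek.JCont j] [AlgebraicGeometry.Etale j] in
theorem isZero_pull_push (hU : Set.range j.base = (Set.range i.base)ᶜ) (G : EtCoh.Ab Z) :
    IsZero ((EtCoh.pull j).obj ((EtCoh.push i).obj G)) := by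
  rw [IsZero.iff_id_eq_zero]
  refine EtFound.eq_of_stalks _ _ fun Ω _ _ z => ?_
  refine (IsZero.of_iso ?_ ((EtFound.stalkPullIso j z).app ((EtCoh.push i).obj G))).eq_of_src _ _
  refine EtFound.isZero_stalk_push_closed i G (z ≫ j) fun h => ?_
  have : (z ≫ j).base (default : Spec (CommRingCat.of Ω)) ∈ Set.range j.base :=
    ⟨_, (Scheme.Hom.comp_apply _ _ _).symm⟩
  rw [hU] at this
  exact this h

end Groth.Agent.DualLib.ClosedDerived
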