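import Mathlib.CategoryTheory.Abelian.RightDerived
import Mathlib.Algebra.Homology.ShortComplex.PreservesHomology
import Mathlib.CategoryTheory.Limits.Preserves.Finite

/-! the lowest cohomology of a complex of injectives commutes with left exact functors -/

universe v v' u u'

open CategoryTheory CategoryTheory.Limits

namespace Groth.Agent.DualLib

set_option backward.isDefEq.respectTransparency false
set_option backward.isDefEq.respectTransparency.types false

variable {C : Type u} [Category.{v} C] [Abelian C] {E : Type u'} [Category.{v'} E] [Abelian E]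
  (K : CochainComplex C ℕ) (hK : ∀ n, Injective (K.X n))

include hK in
theorem exists_regular (n : ℕ) (h0 : ∀ p ≤ n, IsZero (K.homology p)) :
    ∃ h : K.X (n + 1) ⟶ K.X n, K.d n (n + 1) ≫ h ≫ K.d n (n + 1) = K.d n (n + 1) := by
  have key : ∀ n : ℕ, IsZero (K.homology n) → (∃ φ : K.X n ⟶ K.X n,
      K.d ((ComplexShape.up ℕ).prev n) n ≫ φ = 0 ∧ φ ≫ K.d n (n + 1) = K.d n (n + 1)) →
      ∃ h : K.X (n + 1) ⟶ K.X n, K.d n (n + 1) ≫ h ≫ K.d n (n + 1) = K.d n (n + 1) := by
    intro n hn ⟨φ, h₁, h₂⟩
    have hex : (K.sc' ((ComplexShape.up ℕ).prev n) n (n + 1)).Exact :=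
      (K.exactAt_iff' _ _ _ rfl (by simp)).1
        ((K.exactAt_iff_isZero_homology n).2 hn)
    let c : cokernel (K.d ((ComplexShape.up ℕ).prev n) n) ⟶ K.X (n + 1) :=
      cokernel.desc _ (K.d n (n + 1)) (K.d_comp_d _ _ _)
    have : Mono c := hex.mono_cokernelDesc
    have := hK n
    refine ⟨Injective.factorThru (cokernel.desc _ φ h₁) c, ?_⟩
    have e : cokernel.π _ ≫ c = K.d n (n + 1) := cokernel.π_desc _ _ _
    nth_rewrite 1 [← e]
    rw [Category.assoc, Injective.comp_factorThru_assoc, cokernel.π_desc_assoc, h₂]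
  induction n with
  | zero =>
    refine key 0 (h0 0 le_rfl) ⟨𝟙 _, ?_, Category.id_comp _⟩
    rw [K.shape _ _ (by simp), zero_comp]
  | succ n ih =>
    obtain ⟨h, hh⟩ := ih fun p hp => h0 p (hp.trans n.le_succ)
    refine key (n + 1) (h0 _ le_rfl) ⟨𝟙 _ - h ≫ K.d n (n + 1), ?_, by simp⟩
    rw [CochainComplex.prev_nat_succ, Preadditive.comp_sub, hh, Category.comp_id, sub_self]

include hK in
theorem exists_regular_prev (m : ℕ) (h0 : ∀ p < m, IsZero (K.homology p)) :
    ∃ h : K.X m ⟶ K.X ((ComplexShape.up ℕ).prev m),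
      K.d ((ComplexShape.up ℕ).prev m) m ≫ h ≫ K.d _ m = K.d _ m := by
  cases m with
  | zero => exact ⟨0, by rw [K.shape _ _ (by simp)]; simp⟩
  | succ n =>
    rw [CochainComplex.prev_nat_succ]
    exact exists_regular K hK n fun p hp => h0 p (Nat.lt_succ_of_le hp)

variable (G : C ⥤ E) [G.Additive] [PreservesFiniteLimits G]

include hK in
theorem nonempty_edgeIso (m : ℕ) (h0 : ∀ p < m, IsZero (K.homology p)) :
    Nonempty (G.obj (K.homology m) ≅ ((G.mapHomologicalComplex _).obj K).homology m) := by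
  obtain ⟨h, hh⟩ := exists_regular_prev K hK m h0
  let S := K.sc m
  let d := S.leftHomologyData
  let r : d.K ⟶ S.X₁ := d.i ≫ h
  have hr : d.f' ≫ r ≫ d.f' = d.f' := by
    rw [← cancel_mono d.i]
    simp only [r, Category.assoc, d.f'_i, d.f'_i_assoc]
    exact hh
  let σ : d.H ⟶ d.K := d.descH (𝟙 _ - r ≫ d.f') (by rw [Preadditive.comp_sub, hr, Category.comp_id, sub_self])
  have hσ : d.π ≫ σ + r ≫ d.f' = 𝟙 d.K := by rw [d.π_descH]; abel
  have hσ' : σ ≫ d.π = 𝟙 d.H := by
    rw [← cancel_epi d.π, d.π_descH_assoc, Preadditive.sub_comp, Category.assoc, d.f'_π]; simp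
  have : PreservesColimit (parallelPair d.f' 0) G := by
    refine preservesColimit_of_preserves_colimit_cocone d.hπ' ?_
    refine (isColimitMapCoconeCoforkEquiv' G _).symm ?_
    refine Cofork.IsColimit.mk' _ fun s => ⟨G.map σ ≫ s.π, ?_, fun {m} hm => ?_⟩
    · have := congrArg (fun k => G.map k ≫ s.π) hσ
      simp only [Functor.map_add, Functor.map_comp, Preadditive.add_comp, Category.assoc,
        CokernelCofork.condition, comp_zero, add_zero, CategoryTheory.Functor.map_id, Category.id_comp] at this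
      exact this
    · have e : G.map σ ≫ G.map d.π = 𝟙 _ := by rw [← G.map_comp, hσ', G.map_id]
      rw [← hm]
      exact ((Category.id_comp _).symm.trans (congrArg (· ≫ m) e.symm)).trans (Category.assoc _ _ _)
  have : d.IsPreservedBy G := { g := inferInstance, f' := this }
  exact ⟨G.mapIso d.homologyIso ≪≫ (d.map G).homologyIso.symm⟩

end Groth.Agent.DualLib
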