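import Groth.Agent.DualLib.Supp
import Groth.Agent.EtShriekLib.SuppExt

/-! excision for local cohomology groups -/

universe u

open CategoryTheory CategoryTheory.Limits AlgebraicGeometry Opposite

namespace Groth.Agent.DualLib

set_option backward.isDefEq.respectTransparency false
set_option backward.isDefEq.respectTransparency.types false

variable {U X X' U' : Scheme.{u}} (j : U ⟶ X) [IsOpenImmersion j] (f : X' ⟶ X) [AlgebraicGeometry.Etale f]
  [EtShriek.JCont f] (j' : U' ⟶ X') [IsOpenImmersion j'] (hU' : Set.range j'.base = f.base ⁻¹' Set.range j.base)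

/-- `X' ⟶ X` in the etale site of `X` -/
noncomputable def topMap : (EtShriek.compEtale f).obj (EtCoh.top X') ⟶ EtCoh.top X :=
  MorphismProperty.Over.homMk f ((Category.comp_id f).trans (Category.id_comp f).symm)

/-- restriction of supported global sections -/
noncomputable def gammaRestrHom : EtDual.gammaSupp j ⟶ EtShriek.restrAlong f ⋙ EtDual.gammaSupp j' where
  app F := ((EtDual.secSupp j).obj F).obj.map (topMap f).op ≫
    ((suppRestrHom j f j' hU').app F).hom.app (op (EtCoh.top X'))
  naturality F G φ := by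
    let C := sheafToPresheaf X'.smallEtaleTopology AddCommGrpCat.{u + 1}
    have h1 := ((EtDual.secSupp j).map φ).hom.naturality (topMap f).op
    have h2 := congrArg (fun k : (EtShriek.restrAlong f).obj ((EtDual.secSupp j).obj F) ⟶ _ => k.hom.app (op (EtCoh.top X')))
      ((suppRestrHom j f j' hU').naturality φ)
    refine (Category.assoc _ _ _).symm.trans ((congrArg (· ≫ _) h1.symm).trans ((Category.assoc _ _ _).trans ?_))
    exact (congrArg (_ ≫ ·) h2).trans (Category.assoc _ _ _).symm

theorem gammaRestr_incl (F : EtCoh.Ab X) (t : EtCoh.sect ((EtDual.secSupp j).obj F) (EtCoh.top X)) :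
    ((suppIncl j').app ((EtShriek.restrAlong f).obj F)).hom.app (op (EtCoh.top X'))
        ((gammaRestrHom j f j' hU').app F t) =
      F.obj.map (topMap f).op (((suppIncl j).app F).hom.app (op (EtCoh.top X)) t) := by
  refine Eq.trans ?_ (NatTrans.naturality_apply ((suppIncl j).app F).hom (topMap f).op t)
  exact (ConcreteCategory.comp_apply (((suppRestrHom j f j' hU').app F).hom.app (op (EtCoh.top X')))
      (((suppIncl j').app ((EtShriek.restrAlong f).obj F)).hom.app (op (EtCoh.top X')))
      (((EtDual.secSupp j).obj F).obj.map (topMap f).op t)).symm.trans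
    (ConcreteCategory.congr_hom (congrArg
      (fun k : (EtShriek.restrAlong f).obj ((EtDual.secSupp j).obj F) ⟶ _ => k.hom.app (op (EtCoh.top X')))
      (kernel.lift_ι (EtDual.unitApp j' ((EtShriek.restrAlong f).obj F)) ((EtShriek.restrAlong f).map ((suppIncl j).app F))
        (restr_comp_unit j f j' hU' F))) (((EtDual.secSupp j).obj F).obj.map (topMap f).op t))

theorem isIso_gammaRestr (hZ : Set.BijOn f.base (Set.range j'.base)ᶜ (Set.range j.base)ᶜ)
    (hκ : ∀ x' : ↥X', x' ∉ Set.range j'.base → Function.Surjective (f.residueFieldMap x')) (F : EtCoh.Ab X) :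
    IsIso ((gammaRestrHom j f j' hU').app F) := by
  have hpre : f.base ⁻¹' (Set.range j.base)ᶜ = (Set.range j'.base)ᶜ := by rw [hU', Set.preimage_compl]
  refine (ConcreteCategory.isIso_iff_bijective _).2 ⟨?_, fun t => ?_⟩
  · refine (injective_iff_map_eq_zero _).2 fun t ht => injective_suppIncl j F _ ?_
    refine Eq.trans ?_ (map_zero _).symm
    refine EtShriekLib.eq_zero_of_sectSupp_eq_empty (Set.eq_empty_of_forall_notMem fun x hx => ?_)
    have hxZ : x ∉ Set.range j.base := (exists_lift_iff j F (EtCoh.top X) _).1 ⟨t, rfl⟩ x hx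
    obtain ⟨x', hx', rfl⟩ := hZ.surjOn hxZ
    have h0 : F.obj.map (topMap f).op (((suppIncl j).app F).hom.app (op (EtCoh.top X)) t) = 0 :=
      (gammaRestr_incl j f j' hU' F t).symm.trans ((congrArg _ ht).trans (map_zero _))
    exact hx _ (topMap f) ⟨x', rfl⟩ h0
  · have hs := (exists_lift_iff j' _ (EtCoh.top X') _).1 ⟨t, rfl⟩
    obtain ⟨s, hs', hse⟩ := EtShriekLib.exists_supported_ext F (topMap f) (Set.range j.base)ᶜ
      j.isOpenEmbedding.isOpen_range.isClosed_compl
      (show Set.InjOn f.base (f.base ⁻¹' (Set.range j.base)ᶜ) by rw [hpre]; exact hZ.injOn)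
      (show Set.SurjOn f.base (f.base ⁻¹' (Set.range j.base)ᶜ) (Set.range j.base)ᶜ by rw [hpre]; exact hZ.surjOn)
      (fun x hx => ⟨(f.residueFieldMap x).hom.injective, hκ x (hpre.le hx)⟩)
      (((suppIncl j').app ((EtShriek.restrAlong f).obj F)).hom.app (op (EtCoh.top X')) t)
      (by rw [← sectSupp_restr]; exact fun x hx => hpre.ge (hs x hx))
    obtain ⟨t', rfl⟩ := (exists_lift_iff j F (EtCoh.top X) s).2 fun x hx => hs' hx
    exact ⟨t', injective_suppIncl j' _ _ ((gammaRestr_incl j f j' hU' F t').trans hse)⟩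

include hU' in
/-- excision -/
theorem nonempty_excision (hZ : Set.BijOn f.base (Set.range j'.base)ᶜ (Set.range j.base)ᶜ)
    (hκ : ∀ x' : ↥X', x' ∉ Set.range j'.base → Function.Surjective (f.residueFieldMap x')) (F : EtCoh.Ab X) (r : ℕ) :
    Nonempty ((EtDual.HY j r).obj F ≅ (EtDual.HY j' r).obj ((EtCoh.pull f).obj F)) := by
  have := fun F => isIso_gammaRestr j f j' hU' hZ hκ F
  have := NatIso.isIso_of_isIso_app (gammaRestrHom j f j' hU')
  have := restr_preservesFiniteColimits f
  have := restr_preservesInjectiveObjects f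
  exact ⟨(SiteBase.rightDerivedCongr (asIso (gammaRestrHom j f j' hU')) r).app F ≪≫
    (SiteBase.rightDerivedPrecompIso (EtShriek.restrAlong f) (EtDual.gammaSupp j') r).app F ≪≫
    (EtDual.HY j' r).mapIso ((restrPullIso f).app F)⟩

end Groth.Agent.DualLib
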