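import Groth.Agent.DualLib.Tate
import Groth.Agent.DualLib.Excision
import Groth.Agent.DualLib.EdgeIso
import Groth.Agent.EtFound.PullStalk
import Groth.Agent.EtFound.JContGen

/-! vanishing of local cohomology of Tate twists and the groups `H^p_Y` -/

universe u

open CategoryTheory CategoryTheory.Limits AlgebraicGeometry Opposite

namespace Groth.Agent.DualLib

set_option backward.isDefEq.respectTransparency false
set_option backward.isDefEq.respectTransparency.types false

variable {U X : Scheme.{u}} (j : U ⟶ X) [IsOpenImmersion j]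

theorem isZero_locCoh_tate (n : ℕ) (hn : IsUnit (n : Γ(X, ⊤))) (p c : ℕ)
    (h : IsZero ((EtDual.locCoh j p).obj (EtCoh.const X (ZMod n)))) :
    IsZero ((EtDual.locCoh j p).obj (EtDual.tate X n c)) := by
  rw [IsZero.iff_id_eq_zero]
  refine EtFound.eq_of_stalks _ _ fun Ω _ _ ξ => ?_
  obtain ⟨W, g, _, z, ζ, hn0, rfl, hu, hζ⟩ := exists_root_nhd n hn ξ
  have := EtFound.jCont g
  have : NeZero n := ⟨hn0⟩
  let j' : ↑(g ⁻¹ᵁ j.opensRange) ⟶ W := (g ⁻¹ᵁ j.opensRange).ι
  have hj' : Set.range j'.base = g.base ⁻¹' Set.range j.base := Scheme.Opens.range_ι _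
  let E := fun G : EtCoh.Ab X => (locCohRestrIso j g j' hj' p).app G
  obtain ⟨t⟩ := nonempty_tate_iso_const n hu ζ hζ c
  have h1 : IsZero ((EtShriek.restrAlong g).obj ((EtDual.locCoh j p).obj (EtDual.tate X n c))) := by
    refine IsZero.of_iso ?_ (E _)
    refine IsZero.of_iso ?_ ((EtDual.locCoh j' p).mapIso (restrTateIso g n c ≪≫ t ≪≫ (restrConstIso g (ZMod n)).symm))
    exact IsZero.of_iso ((EtShriek.restrAlong g).map_isZero h) (E _).symm
  have h2 : IsZero ((EtCoh.stalk z).obj ((EtCoh.pull g).obj ((EtDual.locCoh j p).obj (EtDual.tate X n c)))) :=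
    (EtCoh.stalk z).map_isZero (h1.of_iso ((restrPullIso g).app _).symm)
  exact (h2.of_iso ((EtFound.stalkPullIso g z).app _).symm).eq_of_src _ _

/-- evaluation at the top -/
noncomputable abbrev gsecF (X : Scheme.{u}) : EtCoh.Ab X ⥤ AddCommGrpCat.{u + 1} :=
  sheafToPresheaf X.smallEtaleTopology AddCommGrpCat.{u + 1} ⋙
    (evaluation X.Etaleᵒᵖ AddCommGrpCat.{u + 1}).obj (op (EtCoh.top X))

/-- the edge isomorphism -/
theorem nonempty_HY_iso_sections (F : EtCoh.Ab X) (m : ℕ)
    (h : ∀ p < m, IsZero ((EtDual.locCoh j p).obj F)) :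
    Nonempty ((EtDual.HY j m).obj F ≅ ((EtDual.locCoh j m).obj F).obj.obj (op (EtCoh.top X))) := by
  let I := injectiveResolution F
  let K := ((EtDual.secSupp j).mapHomologicalComplex _).obj I.cocomplex
  obtain ⟨e⟩ := nonempty_edgeIso K (fun n => @injective_secSupp _ _ j _ _ (I.injective n)) (gsecF X) m
    fun p hp => (h p hp).of_iso (I.isoRightDerivedObj (EtDual.secSupp j) p).symm
  exact ⟨I.isoRightDerivedObj (EtDual.gammaSupp j) m ≪≫ e.symm ≪≫
    (gsecF X).mapIso (I.isoRightDerivedObj (EtDual.secSupp j) m).symm⟩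

theorem isZero_HY (F : EtCoh.Ab X) (m : ℕ) (h : ∀ p ≤ m, IsZero ((EtDual.locCoh j p).obj F)) :
    IsZero ((EtDual.HY j m).obj F) := by
  obtain ⟨e⟩ := nonempty_HY_iso_sections j F m fun p hp => h p hp.le
  exact ((gsecF X).map_isZero (h m le_rfl)).of_iso e

section Triple

variable {X' : Scheme.{u}} (k : X' ⟶ X) [IsOpenImmersion k] (j' : U ⟶ X') [IsOpenImmersion j'] (hfac : j' ≫ k = j)
  [EtShriek.JCont k]

include hfac in
theorem range_eq_preimage : Set.range j'.base = k.base ⁻¹' Set.range j.base := by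
  ext x
  constructor
  · rintro ⟨u, rfl⟩
    exact ⟨u, by rw [← hfac]; exact Scheme.Hom.comp_apply _ _ u⟩
  · rintro ⟨u, hu⟩
    exact ⟨u, k.isOpenEmbedding.injective (by rw [← hu, ← hfac]; exact (Scheme.Hom.comp_apply _ _ u).symm)⟩

include hfac in
theorem range_subset : Set.range j.base ⊆ Set.range k.base := by
  rintro _ ⟨u, rfl⟩
  exact ⟨j'.base u, by rw [← hfac]; exact (Scheme.Hom.comp_apply _ _ u).symm⟩

include hfac in
theorem lift_subset (F : EtCoh.Ab X) (t : (EtDual.gammaSupp k).obj F) :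
    ∃ t' : EtCoh.sect ((EtDual.secSupp j).obj F) (EtCoh.top X),
      ((suppIncl j).app F).hom.app (op (EtCoh.top X)) t' = ((suppIncl k).app F).hom.app (op (EtCoh.top X)) t :=
  (exists_lift_iff j F (EtCoh.top X) _).2 fun x hx hxj =>
    (exists_lift_iff k F (EtCoh.top X) _).1 ⟨t, rfl⟩ x hx (range_subset j k j' hfac hxj)

/-- `Γ_Z ⟶ Γ_Y` -/
noncomputable def gammaIncl : EtDual.gammaSupp k ⟶ EtDual.gammaSupp j where
  app F := (gsecF X).map (kernel.lift (EtDual.unitApp j F) ((suppIncl k).app F) (by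
    apply Sheaf.hom_ext
    ext V s
    obtain ⟨V⟩ := V
    refine (unit_app_eq_zero_iff j F V _).2 fun x hx hxj => ?_
    exact (exists_lift_iff k F V _).1 ⟨s, rfl⟩ x hx (range_subset j k j' hfac hxj)))
  naturality F G φ := by
    show (gsecF X).map _ ≫ (gsecF X).map _ = (gsecF X).map _ ≫ (gsecF X).map _
    rw [← Functor.map_comp, ← Functor.map_comp]
    refine congrArg (gsecF X).map ?_
    refine (cancel_mono (kernel.ι (EtDual.unitApp j G))).1 ?_
    refine (Category.assoc _ _ _).trans ((congrArg (_ ≫ ·) (kernel.lift_ι _ _ _)).trans ?_)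
    refine Eq.trans ?_ (Category.assoc _ _ _).symm
    refine Eq.trans ?_ (congrArg (_ ≫ ·) ((suppIncl j).naturality φ)).symm
    refine Eq.trans ?_ (Category.assoc _ _ _)
    exact ((suppIncl k).naturality φ).trans (congrArg (· ≫ _) (kernel.lift_ι _ _ _).symm)

include hfac in
theorem gammaIncl_spec (F : EtCoh.Ab X) (t : (EtDual.gammaSupp k).obj F) :
    ((suppIncl j).app F).hom.app (op (EtCoh.top X)) ((gammaIncl j k j' hfac).app F t) =
      ((suppIncl k).app F).hom.app (op (EtCoh.top X)) t :=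
  (ConcreteCategory.comp_apply _ _ t).symm.trans
    (ConcreteCategory.congr_hom ((((gsecF X).map_comp _ _).symm.trans
      (congrArg (gsecF X).map (kernel.lift_ι (EtDual.unitApp j F) ((suppIncl k).app F) _)))) t)

/-- restriction `Γ_Y ⟶ Γ_V` -/
noncomputable abbrev gammaRes : EtDual.gammaSupp j ⟶ EtShriek.restrAlong k ⋙ EtDual.gammaSupp j' :=
  gammaRestrHom j k j' (range_eq_preimage j k j' hfac)

include hfac in
theorem tripleSeq : FunSeq (gammaIncl j k j' hfac) (gammaRes j k j' hfac) := by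
  have hw : ∀ F, (gammaIncl j k j' hfac).app F ≫ (gammaRes j k j' hfac).app F = 0 := fun F => by
    ext t
    refine injective_suppIncl j' _ _ ((gammaRestr_incl j k j' (range_eq_preimage j k j' hfac) F ((gammaIncl j k j' hfac).app F t)).trans ?_)
    refine (congrArg _ (gammaIncl_spec j k j' hfac F t)).trans ?_
    refine Eq.trans ?_ (map_zero _).symm
    refine EtShriekLib.eq_zero_of_sectSupp_eq_empty ?_
    rw [EtShriekLib.sectSupp_map]
    exact Set.eq_empty_of_forall_notMem fun y hy =>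
      (exists_lift_iff k F (EtCoh.top X) _).1 ⟨t, rfl⟩ _ hy ⟨y, rfl⟩
  refine ⟨hw, fun I hI => ?_⟩
  refine { exact := (ShortComplex.ab_exact_iff _).2 fun s hs => ?_, mono_f := ?_, epi_g := ?_ }
  · have h0 : I.obj.map (topMap k).op (((suppIncl j).app I).hom.app (op (EtCoh.top X)) s) = 0 :=
      (gammaRestr_incl j k j' (range_eq_preimage j k j' hfac) I s).symm.trans ((congrArg _ hs).trans (map_zero _))
    obtain ⟨t, ht⟩ := (exists_lift_iff k I (EtCoh.top X) _).2 fun x hx hxk => by
      obtain ⟨x', rfl⟩ : ∃ x', k.base x' = x := hxk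
      exact hx _ (topMap k) ⟨x', rfl⟩ h0
    exact ⟨t, injective_suppIncl j I _ ((gammaIncl_spec j k j' hfac I t).trans ht)⟩
  · refine (AddCommGrpCat.mono_iff_injective _).2 fun a b e => injective_suppIncl k I _ ?_
    exact (gammaIncl_spec j k j' hfac I a).symm.trans ((congrArg _ e).trans (gammaIncl_spec j k j' hfac I b))
  · refine (AddCommGrpCat.epi_iff_surjective _).2 fun t => ?_
    have : Mono (topMap k) := ⟨fun g g' e => MorphismProperty.Over.Hom.ext ((cancel_mono k).1
      (congrArg (fun m => m.left) e))⟩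
    have : Injective ((sheafToPresheaf X.smallEtaleTopology AddCommGrpCat.{u + 1}).obj I) :=
      Injective.injective_of_adjoint (sheafificationAdjunction X.smallEtaleTopology AddCommGrpCat.{u + 1}) I
    obtain ⟨s, hs⟩ := EtLC12.EtZarCompare.surjective_map_of_mono
      ((sheafToPresheaf X.smallEtaleTopology AddCommGrpCat.{u + 1}).obj I) (topMap k)
      (((suppIncl j').app ((EtShriek.restrAlong k).obj I)).hom.app (op (EtCoh.top X')) t)
    obtain ⟨s', rfl⟩ := (exists_lift_iff j I (EtCoh.top X) s).2 fun x hx hxj => by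
      obtain ⟨x', rfl⟩ : ∃ x', k.base x' = x := range_subset j k j' hfac hxj
      have h2 : x' ∈ EtShriek.sectSupp I ((EtShriek.compEtale k).obj (EtCoh.top X')) (I.obj.map (topMap k).op s) := by
        rw [EtShriekLib.sectSupp_map]; exact hx
      rw [show I.obj.map (topMap k).op s = _ from hs, ← sectSupp_restr k I (EtCoh.top X')] at h2
      exact (exists_lift_iff j' _ (EtCoh.top X') _).1 ⟨t, rfl⟩ x' h2
        ((range_eq_preimage j k j' hfac).ge hxj)
    exact ⟨s', injective_suppIncl j' _ _ ((gammaRestr_incl j k j' _ I s').trans hs)⟩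

include hfac in
theorem nonempty_HY_iso_of_vanishing (F : EtCoh.Ab X) (m : ℕ)
    (h : ∀ p ≤ m + 1, IsZero ((EtDual.locCoh k p).obj F)) :
    Nonempty ((EtDual.HY j m).obj F ≅ (EtDual.HY j' m).obj ((EtShriek.restrAlong k).obj F)) := by
  have := restr_preservesFiniteColimits k
  have := restr_preservesInjectiveObjects k
  obtain ⟨w, hw⟩ := exact₂ (tripleSeq j k j' hfac) F m
  obtain ⟨w', hw'⟩ := exact₃ (tripleSeq j k j' hfac) F m (m + 1) rfl
  have : Mono ((NatTrans.rightDerived (gammaRes j k j' hfac) m).app F) :=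
    hw.mono_g ((isZero_HY k F m fun p hp => h p (hp.trans m.le_succ)).eq_of_src _ _)
  have : Epi ((NatTrans.rightDerived (gammaRes j k j' hfac) m).app F) :=
    hw'.epi_f ((isZero_HY k F (m + 1) h).eq_of_tgt _ _)
  have : IsIso ((NatTrans.rightDerived (gammaRes j k j' hfac) m).app F) := isIso_of_mono_of_epi _
  exact ⟨asIso ((NatTrans.rightDerived (gammaRes j k j' hfac) m).app F) ≪≫
    (SiteBase.rightDerivedPrecompIso (EtShriek.restrAlong k) (EtDual.gammaSupp j') m).app F⟩

end Triple

end Groth.Agent.DualLib
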