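import Groth.Prelude.Def_EtDual
import Groth.Prelude.Def_EtTens2
import Groth.Agent.DualLib.Pull
import Groth.Agent.EtFound.ConstStalk
import Groth.Agent.EtFound.Basic
import Groth.Agent.EtTensLib.Stalk
import Groth.Agent.EtLC12.MuConst
import Groth.Agent.AzumayaX.SepElement
import Groth.Prelude.Def_EtCore
import Mathlib.FieldTheory.Separable
import Mathlib.CategoryTheory.Sites.CoverLifting

/-! Tate twists under etale restriction; they are locally constant -/

universe u

open CategoryTheory CategoryTheory.Limits AlgebraicGeometry Opposite TensorProduct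

namespace Groth.Agent.DualLib

set_option backward.isDefEq.respectTransparency false
set_option backward.isDefEq.respectTransparency.types false

variable {X X' : Scheme.{u}} (f : X' ⟶ X) [AlgebraicGeometry.Etale f]

theorem isCocontinuous_compEtale :
    (EtShriek.compEtale f).IsCocontinuous X'.smallEtaleTopology X.smallEtaleTopology := by
  refine ⟨fun {W : X'.Etale} {S} hS => (EtFound.mem_topology_iff _).2 fun x => ?_⟩
  obtain ⟨V, g, v, hg, hv⟩ := (EtFound.mem_topology_iff _).1 hS x
  let V' := (EtShriek.compEtaleLift f g).1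
  let i := (EtShriek.compEtaleLift f g).2
  let g' : V' ⟶ W := MorphismProperty.Over.homMk (i.hom.left ≫ g.left)
    ((Category.assoc _ _ _).trans (Category.id_comp _))
  have hgl : (EtShriek.compEtale f).map g' = i.hom ≫ g := MorphismProperty.Over.Hom.ext rfl
  refine ⟨V', g', i.inv.left.base v, ?_, ?_⟩
  · show S ((EtShriek.compEtale f).map g')
    rw [hgl]
    exact S.downward_closed hg i.hom
  · show (i.hom.left ≫ g.left).base (i.inv.left.base v) = x
    rw [← Scheme.Hom.comp_apply, ← Category.assoc,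
      show i.inv.left ≫ i.hom.left = 𝟙 _ from congrArg (fun k => k.left) i.inv_hom_id, Category.id_comp]
    exact hv

variable [EtShriek.JCont f]

/-- restriction commutes with tensor products -/
noncomputable def restrTensorIso (F G : EtCoh.Ab X) :
    (EtShriek.restrAlong f).obj (EtDual.tensorAb F G) ≅
      EtDual.tensorAb ((EtShriek.restrAlong f).obj F) ((EtShriek.restrAlong f).obj G) :=
  haveI := isCocontinuous_compEtale f
  ((EtShriek.compEtale f).pushforwardContinuousSheafificationCompatibility AddCommGrpCat.{u + 1}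
    X'.smallEtaleTopology X.smallEtaleTopology).symm.app (EtDual.tensorPre F G) ≪≫
  (presheafToSheaf X'.smallEtaleTopology AddCommGrpCat.{u + 1}).mapIso
    (NatIso.ofComponents (fun _ => Iso.refl _) fun _ => (Category.comp_id _).trans (Category.id_comp _).symm)

/-- restriction of `G_m` -/
noncomputable def restrGmIso : (EtShriek.restrAlong f).obj (EtCoh.Gm X) ≅ EtCoh.Gm X' :=
  (fullyFaithfulSheafToPresheaf _ _).preimageIso
    (NatIso.ofComponents (fun _ => Iso.refl _) fun _ => (Category.comp_id _).trans (Category.id_comp _).symm)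

variable (n : ℕ)

theorem restrGm_powMap :
    (EtShriek.restrAlong f).map (EtCoh.powMap X n) ≫ (restrGmIso f).hom = (restrGmIso f).hom ≫ EtCoh.powMap X' n := by
  have : (EtShriek.restrAlong f).Additive := Functor.additive_of_iso (restrPullIso f).symm (F := EtCoh.pull f)
  rw [EtCoh.powMap, EtCoh.powMap, Functor.map_nsmul, CategoryTheory.Functor.map_id, Preadditive.nsmul_comp,
    Preadditive.comp_nsmul, Category.id_comp, Category.comp_id]

/-- restriction of `μ_n` -/
noncomputable def restrMuIso : (EtShriek.restrAlong f).obj (EtCoh.mu X n) ≅ EtCoh.mu X' n :=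
  PreservesKernel.iso (EtShriek.restrAlong f) (EtCoh.powMap X n) ≪≫
    kernel.mapIso _ _ (restrGmIso f) (restrGmIso f) (restrGm_powMap f n)

/-- restriction of a constant sheaf -/
noncomputable def restrConstIso (M : Type) [AddCommGroup M] :
    (EtShriek.restrAlong f).obj (EtCoh.const X M) ≅ EtCoh.const X' M :=
  (restrPullIso f).app _ ≪≫ EtCore.pullConst f M

/-- `tensorAb` is functorial in isomorphisms -/
noncomputable def tensorAbIso {F F' G G' : EtCoh.Ab X} (a : F ≅ F') (b : G ≅ G') :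
    EtDual.tensorAb F G ≅ EtDual.tensorAb F' G' :=
  (EtTens.tensorBi.mapIso a).app G ≪≫ (EtTens.tensorBi.obj F').mapIso b

/-- restriction of the Tate twists -/
noncomputable def restrTateIso : ∀ d : ℕ, (EtShriek.restrAlong f).obj (EtDual.tate X n d) ≅ EtDual.tate X' n d
  | 0 => restrConstIso f (ZMod n)
  | d + 1 => restrTensorIso f _ _ ≪≫ tensorAbIso (restrTateIso d) (restrMuIso f n)

omit [AlgebraicGeometry.Etale f] [EtShriek.JCont f]

/-- `ℤ/n` as a presheaf -/
noncomputable abbrev zP (n : ℕ) (Y : Scheme.{u}) : Y.Etaleᵒᵖ ⥤ AddCommGrpCat.{u + 1} :=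
  (Functor.const Y.Etaleᵒᵖ).obj (AddCommGrpCat.of (ULift.{u + 1} (ZMod n)))

/-- `m ↦ m ⊗ 1` -/
noncomputable def oneTensor (n : ℕ) :
    AddCommGrpCat.of (ULift.{u + 1} (ZMod n)) ⟶
      AddCommGrpCat.of (ULift.{u + 1} (ZMod n) ⊗[ℤ] ULift.{u + 1} (ZMod n)) :=
  AddCommGrpCat.ofHom ((TensorProduct.mk ℤ _ _).flip ⟨1⟩).toAddMonoidHom

theorem oneTensor_bijective (n : ℕ) : Function.Bijective (oneTensor.{u} n) := by
  refine ⟨fun a b h => ?_, fun x => ?_⟩
  · let μ : (ULift.{u + 1} (ZMod n) ⊗[ℤ] ULift.{u + 1} (ZMod n)) →+ ZMod n :=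
      TensorProduct.liftAddHom
        ((AddMonoidHom.mul (R := ZMod n)).compl₂ AddEquiv.ulift.toAddMonoidHom |>.comp AddEquiv.ulift.toAddMonoidHom)
        (fun r a b => by
          show (r • a).down * b.down = a.down * (r • b).down
          simp [mul_assoc, mul_comm, mul_left_comm])
    have := congrArg μ h
    refine ULift.ext _ _ ?_
    simpa [μ, oneTensor, AddEquiv.ulift] using this
  · induction x using TensorProduct.induction_on with
    | zero => exact ⟨0, map_zero _⟩
    | tmul a b =>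
      obtain ⟨k, hk⟩ := ZMod.intCast_surjective b.down
      refine ⟨k • a, ?_⟩
      show (k • a) ⊗ₜ[ℤ] (⟨1⟩ : ULift.{u + 1} (ZMod n)) = a ⊗ₜ[ℤ] b
      rw [TensorProduct.smul_tmul]
      refine congrArg (a ⊗ₜ[ℤ] ·) (ULift.ext _ _ ?_)
      simp [← hk]
    | add a b ha hb =>
      obtain ⟨a', rfl⟩ := ha
      obtain ⟨b', rfl⟩ := hb
      exact ⟨a' + b', map_add _ _ _⟩

/-- `ℤ/n ⟶ ℤ/n ⊗ ℤ/n` on presheaves -/
noncomputable def oneTensorPre (n : ℕ) (Y : Scheme.{u}) :
    zP n Y ⟶ EtTens.tensorObj (zP n Y) (zP n Y) where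
  app _ := oneTensor n
  naturality U V i := AddCommGrpCat.hom_ext (AddMonoidHom.ext fun m => rfl)

/-- `ℤ/n ⟶ ℤ/n ⊗ ℤ/n` -/
noncomputable def constToTensor (n : ℕ) (Y : Scheme.{u}) :
    EtCoh.const Y (ZMod n) ⟶ EtDual.tensorAb (EtCoh.const Y (ZMod n)) (EtCoh.const Y (ZMod n)) :=
  ⟨sheafifyLift Y.smallEtaleTopology (oneTensorPre n Y ≫
      EtTens.tensorHom (toSheafify _ (zP n Y)) (toSheafify _ (zP n Y)) ≫ toSheafify _ _)
    (EtDual.tensorAb (EtCoh.const Y (ZMod n)) (EtCoh.const Y (ZMod n))).property⟩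

theorem toSheafify_constToTensor (n : ℕ) (Y : Scheme.{u}) :
    toSheafify Y.smallEtaleTopology (zP n Y) ≫ (constToTensor n Y).hom =
      oneTensorPre n Y ≫ EtTens.tensorHom (toSheafify _ (zP n Y)) (toSheafify _ (zP n Y)) ≫ toSheafify _ _ :=
  toSheafify_sheafifyLift _ _ _

theorem isIso_constToTensor (n : ℕ) (Y : Scheme.{u}) : IsIso (constToTensor n Y) := by
  refine (EtFound.isIso_iff_stalks _).2 fun Ω _ _ ξ => (ConcreteCategory.isIso_iff_bijective _).2 ?_
  let Φ := Scheme.pointSmallEtale ξ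
  obtain ⟨V, v⟩ : ∃ V : Y.Etale, Nonempty (Φ.fiber.obj V) := ⟨EtCoh.top Y, ⟨CategoryTheory.Over.homMk ξ (Category.comp_id ξ)⟩⟩
  obtain ⟨v⟩ := v
  let g : ULift.{u + 1} (ZMod n) → (EtCoh.stalk ξ).obj (EtCoh.const Y (ZMod n)) := fun m =>
    Φ.toPresheafFiber V v (EtCoh.const Y (ZMod n)).obj ((toSheafify Y.smallEtaleTopology (zP n Y)).app (op V) m)
  have hg : Function.Bijective g :=
    EtFound.toSheafify_const_germ_bijective ξ AddCommGrpCat.{u + 1} (AddCommGrpCat.of (ULift.{u + 1} (ZMod n))) V v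
  let g' : ULift.{u + 1} (ZMod n) →+ (EtCoh.stalk ξ).obj (EtCoh.const Y (ZMod n)) :=
    AddMonoidHom.mk' g fun a b => (congrArg (fun z => Φ.toPresheafFiber V v (EtCoh.const Y (ZMod n)).obj z) (map_add _ a b)).trans (map_add _ _ _)
  let gg := TensorProduct.congr (AddEquiv.ofBijective g' hg).toIntLinearEquiv (AddEquiv.ofBijective g' hg).toIntLinearEquiv
  have key : ∀ m, (EtCoh.stalk ξ).map (constToTensor n Y) (g m) =
      EtTensLib.stalkTensor ξ (EtCoh.const Y (ZMod n)) (EtCoh.const Y (ZMod n)) (gg (oneTensor n m)) := fun m => by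
    refine (Φ.toPresheafFiber_naturality_apply (constToTensor n Y).hom V v _).trans ?_
    refine Eq.trans ?_ (EtTensLib.stalkTensor_germ ξ _ _ V v
      ((toSheafify Y.smallEtaleTopology (zP n Y)).app (op V) m) ((toSheafify Y.smallEtaleTopology (zP n Y)).app (op V) ⟨1⟩)).symm
    refine congrArg (fun z => Φ.toPresheafFiber V v (EtDual.tensorAb (EtCoh.const Y (ZMod n)) (EtCoh.const Y (ZMod n))).obj z) ?_
    exact (ConcreteCategory.comp_apply ((toSheafify Y.smallEtaleTopology (zP n Y)).app (op V))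
        ((constToTensor n Y).hom.app (op V)) m).symm.trans
      (ConcreteCategory.congr_hom (congr_app (toSheafify_constToTensor n Y) (op V)) m)
  refine (Function.Bijective.of_comp_iff _ hg).1 ?_
  rw [show _ ∘ g = _ from funext key]
  exact (EtTensLib.stalkTensor_bijective ξ _ _).comp (gg.bijective.comp (oneTensor_bijective n))

/-- with a root of the cyclotomic polynomial the Tate twists are constant -/
theorem nonempty_tate_iso_const (n : ℕ) [NeZero n] {Y : Scheme.{u}} (hu : IsUnit (n : Γ(Y, ⊤))) (ζ : Γ(Y, ⊤))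
    (hζ : Polynomial.aeval ζ (Polynomial.cyclotomic n ℤ) = 0) (d : ℕ) :
    Nonempty (EtDual.tate Y n d ≅ EtCoh.const Y (ZMod n)) := by
  induction d with
  | zero => exact ⟨Iso.refl _⟩
  | succ d ih =>
    obtain ⟨a⟩ := ih
    obtain ⟨b⟩ := EtLC12.MuConst.nonempty_mu_iso_const hu ζ hζ
    have := isIso_constToTensor n Y
    exact ⟨tensorAbIso a b ≪≫ (asIso (constToTensor n Y)).symm⟩

/-- an etale neighbourhood carrying a root of the cyclotomic polynomial -/
theorem exists_root_nhd {Y : Scheme.{u}} (n : ℕ) (hu : IsUnit (n : Γ(Y, ⊤))) {Ω : Type u} [Field Ω] [IsSepClosed Ω]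
    (ξ : Spec (CommRingCat.of Ω) ⟶ Y) :
    ∃ (W : Scheme.{u}) (g : W ⟶ Y) (_ : AlgebraicGeometry.Etale g) (z : Spec (CommRingCat.of Ω) ⟶ W) (ζ : Γ(W, ⊤)),
      n ≠ 0 ∧ z ≫ g = ξ ∧ IsUnit (n : Γ(W, ⊤)) ∧ Polynomial.aeval ζ (Polynomial.cyclotomic n ℤ) = 0 := by
  obtain ⟨_, ⟨O, hO, rfl⟩, hx, -⟩ := Y.isBasis_affineOpens.exists_subset_of_mem_open
    (Set.mem_univ (ξ.base (default : Spec (CommRingCat.of Ω)))) isOpen_univ
  have hrg : Set.range ξ.base ⊆ Set.range hO.fromSpec.base := by
    rintro _ ⟨p, rfl⟩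
    rw [IsAffineOpen.range_fromSpec, Subsingleton.elim p default]
    exact hx
  obtain ⟨a, ha⟩ := Spec.map_surjective (IsOpenImmersion.lift hO.fromSpec ξ hrg)
  let A := Γ(Y, O)
  have huA : IsUnit (n : A) := by
    have := hu.map (Y.presheaf.map (homOfLE (le_top : O ≤ ⊤)).op).hom
    rwa [map_natCast] at this
  let P : Polynomial A := Polynomial.cyclotomic n A
  have hsep : P.Separable := by
    refine Polynomial.Separable.of_dvd ?_ (Polynomial.cyclotomic.dvd_X_pow_sub_one n A)
    simpa using Polynomial.separable_X_pow_sub_C_unit (1 : Aˣ) huA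
  have hn0 : n ≠ 0 := by
    rintro rfl
    have := (huA.map a.hom)
    simp only [Nat.cast_zero, map_zero] at this
    exact not_isUnit_zero this
  obtain ⟨r, hr⟩ := IsSepClosed.exists_root (P.map a.hom) (by
      rw [show P.map a.hom = Polynomial.cyclotomic n Ω from Polynomial.map_cyclotomic n a.hom]
      exact (Polynomial.degree_cyclotomic_pos n Ω (Nat.pos_of_ne_zero hn0)).ne')
    (Polynomial.Separable.map hsep)
  have := AzumayaX.etale_adjoinRoot (Polynomial.cyclotomic.monic n A) hsep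
  let B := CommRingCat.of (AdjoinRoot P)
  let φ : A ⟶ B := CommRingCat.ofHom (algebraMap A (AdjoinRoot P))
  have hφ : φ.hom.Etale := RingHom.etale_algebraMap.2 this
  have : AlgebraicGeometry.Etale (Spec.map φ) := (HasRingHomProperty.Spec_iff (P := @AlgebraicGeometry.Etale)).2 hφ
  let e := (Scheme.ΓSpecIso B).commRingCatIsoToRingEquiv
  let lz : B ⟶ CommRingCat.of Ω := CommRingCat.ofHom (AdjoinRoot.lift a.hom r (by rw [← Polynomial.eval_map]; exact hr))
  refine ⟨Spec B, Spec.map φ ≫ hO.fromSpec, inferInstance, Spec.map lz, e.symm (AdjoinRoot.root P), hn0, ?_, ?_, ?_⟩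
  · rw [← Category.assoc, ← Spec.map_comp,
      show φ ≫ lz = a from CommRingCat.hom_ext (RingHom.ext fun t => AdjoinRoot.lift_of (f := P) (i := a.hom) (a := r) (by rw [← Polynomial.eval_map]; exact hr)), ha, IsOpenImmersion.lift_fac]
  · have := huA.map (e.symm.toRingHom.comp φ.hom)
    rwa [map_natCast] at this
  · rw [show e.symm (AdjoinRoot.root P) = (e.symm.toRingHom.toIntAlgHom) (AdjoinRoot.root P) from rfl,
      Polynomial.aeval_algHom_apply]
    refine (congrArg _ ?_).trans (map_zero _)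
    rw [← Polynomial.aeval_map_algebraMap A, Polynomial.map_cyclotomic]
    exact (AdjoinRoot.aeval_eq _).trans AdjoinRoot.mk_self

end Groth.Agent.DualLib
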